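import Mathlib

/-!
Axial automorphisms of symmetric designs: an automorphism fixing a block pointwise fixes at most
one further point; an involution of this kind inverts no element of odd order fixing another block
pointwise, when these groups are semiregular off their blocks.
-/

set_option autoImplicit false
set_option linter.style.haveILetI false
set_option linter.unusedSectionVars false

namespace H13.Ito

open MulAction
open scoped Classical

variable {G Ω Y : Type*} [Group G] [MulAction G Ω] [MulAction G Y] [Fintype Ω] [Fintype Y]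

/-- A symmetric design with a group of automorphisms having equal fixed point numbers on points
and blocks. -/
structure Sym (G Ω Y : Type*) [Group G] [MulAction G Ω] [MulAction G Y] [Fintype Ω] [Fintype Y]
    where
  pts : Y → Finset Ω
  smul_mem : ∀ (g : G) z E, g • z ∈ pts (g • E) ↔ z ∈ pts E
  k : ℕ
  l : ℕ
  l_pos : 0 < l
  l_lt : l < k
  blk : ∀ E, (pts E).card = k
  star : ∀ z, (Finset.univ.filter fun E => z ∈ pts E).card = k
  two : ∀ z z', z ≠ z' → (Finset.univ.filter fun E => z ∈ pts E ∧ z' ∈ pts E).card = l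
  meet : ∀ E E', E ≠ E' → (pts E ∩ pts E').card = l
  fixed : ∀ g : G, Nat.card (fixedBy Ω g) = Nat.card (fixedBy Y g)

namespace Sym

variable (S : Sym G Ω Y)

/-- The pointwise stabiliser of a block. -/
def axial (E : Y) : Subgroup G := fixingSubgroup G (S.pts E : Set Ω)

theorem mem_axial {E : Y} {g : G} : g ∈ S.axial E ↔ ∀ z ∈ S.pts E, g • z = z := by
  simp [axial, mem_fixingSubgroup_iff]

theorem pts_injective {E E' : Y} (h : S.pts E = S.pts E') : E = E' := by
  by_contra hne
  have := S.meet E E' hne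
  rw [h, Finset.inter_self, S.blk] at this
  exact S.l_lt.ne' this

theorem axial_smul_block {E : Y} {g : G} (hg : g ∈ S.axial E) : g • E = E := by
  apply S.pts_injective
  refine (Finset.eq_of_subset_of_card_le (fun z hz => ?_) (by rw [S.blk, S.blk])).symm
  rw [← (S.mem_axial.1 hg z hz), S.smul_mem]
  exact hz

theorem smul_ne {B : Y} {g : G} (hg : g ∈ S.axial B) {y : Ω} (hy : g • y ≠ y) :
    g • y ∉ S.pts B ∧ y ∉ S.pts B :=
  ⟨fun h => hy (smul_left_cancel g (S.mem_axial.1 hg _ h)), fun h => hy (S.mem_axial.1 hg _ h)⟩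

/-- A block through a moved point and its image is fixed. -/
theorem smul_block_of_moved {B : Y} {g : G} (hg : g ∈ S.axial B) {y : Ω} (hy : g • y ≠ y) {E : Y}
    (h1 : y ∈ S.pts E) (h2 : g • y ∈ S.pts E) : g • E = E := by
  by_contra hne
  have hEB : E ≠ B := fun h => (S.smul_ne hg hy).2 (h ▸ h1)
  have hsub : insert (g • y) (S.pts E ∩ S.pts B) ⊆ S.pts E ∩ S.pts (g • E) := by
    intro z hz
    rcases Finset.mem_insert.1 hz with rfl | hz
    · exact Finset.mem_inter.2 ⟨h2, (S.smul_mem g y E).2 h1⟩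
    · obtain ⟨hzE, hzB⟩ := Finset.mem_inter.1 hz
      refine Finset.mem_inter.2 ⟨hzE, ?_⟩
      rw [← S.mem_axial.1 hg z hzB, S.smul_mem]
      exact hzE
  have h3 := Finset.card_le_card hsub
  rw [Finset.card_insert_of_notMem (fun h => (S.smul_ne hg hy).1 (Finset.mem_inter.1 h).2),
    S.meet E B hEB, S.meet E (g • E) (Ne.symm hne)] at h3
  omega

theorem smul_block_of_fixed {B : Y} {g : G} (hg : g ∈ S.axial B) {q : Ω} (hq : g • q = q)
    (hqB : q ∉ S.pts B) {E : Y} (h1 : q ∈ S.pts E) : g • E = E := by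
  by_contra hne
  have hEB : E ≠ B := fun h => hqB (h ▸ h1)
  have hsub : insert q (S.pts E ∩ S.pts B) ⊆ S.pts E ∩ S.pts (g • E) := by
    intro z hz
    have hfix : g • z = z ∧ z ∈ S.pts E := by
      rcases Finset.mem_insert.1 hz with rfl | hz
      · exact ⟨hq, h1⟩
      · obtain ⟨hzE, hzB⟩ := Finset.mem_inter.1 hz
        exact ⟨S.mem_axial.1 hg z hzB, hzE⟩
    refine Finset.mem_inter.2 ⟨hfix.2, ?_⟩
    rw [← hfix.1, S.smul_mem]
    exact hfix.2
  have h3 := Finset.card_le_card hsub
  rw [Finset.card_insert_of_notMem (fun h => hqB (Finset.mem_inter.1 h).2), S.meet E B hEB,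
    S.meet E (g • E) (Ne.symm hne)] at h3
  omega

/-- The fixed blocks through a moved point are the blocks through it and its image. -/
theorem fixed_through_moved {B : Y} {g : G} (hg : g ∈ S.axial B) {y : Ω} (hy : g • y ≠ y) :
    (Finset.univ.filter fun E => y ∈ S.pts E ∧ g • E = E).card = S.l := by
  rw [← S.two y (g • y) (Ne.symm hy)]
  congr 1
  refine Finset.filter_congr fun E _ => ⟨fun h => ⟨h.1, ?_⟩, fun h => ⟨h.1, ?_⟩⟩
  · rw [← h.2, S.smul_mem]; exact h.1
  · exact S.smul_block_of_moved hg hy h.1 h.2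

/-- A fixed block through a moved point contains every fixed point outside the axis. -/
theorem fixed_mem {B : Y} {g : G} (hg : g ∈ S.axial B) {y q : Ω} (hy : g • y ≠ y) (hq : g • q = q)
    (hqB : q ∉ S.pts B) {E : Y} (hE : g • E = E) (h1 : y ∈ S.pts E) : q ∈ S.pts E := by
  have hyq : y ≠ q := fun h => hy (h ▸ hq)
  have hsub : (Finset.univ.filter fun E => y ∈ S.pts E ∧ q ∈ S.pts E) ⊆
      (Finset.univ.filter fun E => y ∈ S.pts E ∧ g • E = E) := by
    intro E' hE'
    rw [Finset.mem_filter] at hE' ⊢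
    exact ⟨hE'.1, hE'.2.1, S.smul_block_of_fixed hg hq hqB hE'.2.2⟩
  have heq := Finset.eq_of_subset_of_card_le hsub
    (by rw [S.fixed_through_moved hg hy, S.two y q hyq])
  have : E ∈ Finset.univ.filter fun E => y ∈ S.pts E ∧ q ∈ S.pts E := by
    rw [heq, Finset.mem_filter]; exact ⟨Finset.mem_univ _, h1, hE⟩
  exact (Finset.mem_filter.1 this).2.2

/-- An axial automorphism fixes at most one point outside its axis. -/
theorem fixed_outside_unique [FaithfulSMul G Ω] {B : Y} {g : G} (hg : g ∈ S.axial B) (hg1 : g ≠ 1)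
    {q q' : Ω} (hq : g • q = q) (hq' : g • q' = q') (hqB : q ∉ S.pts B) (hqB' : q' ∉ S.pts B) :
    q = q' := by
  by_contra hne
  obtain ⟨y, hy⟩ : ∃ y : Ω, g • y ≠ y := by
    by_contra h
    push Not at h
    exact hg1 (FaithfulSMul.eq_of_smul_eq_smul fun z => by rw [h, one_smul])
  set Sf := Finset.univ.filter fun z => g • z = z ∧ z ∉ S.pts B with hSf
  -- a block through `q` but not `q'` has only fixed points outside the axis
  obtain ⟨E, hE, hE'⟩ : ∃ E, q ∈ S.pts E ∧ q' ∉ S.pts E := by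
    by_contra h
    push Not at h
    have h1 := S.two q q' hne
    rw [Finset.filter_congr (fun E _ => and_iff_left_of_imp (h E)), S.star] at h1
    exact S.l_lt.ne' h1
  have hEf : g • E = E := S.smul_block_of_fixed hg hq hqB hE
  have hsub1 : insert q' (S.pts E \ S.pts B) ⊆ Sf := by
    intro z hz
    rw [hSf, Finset.mem_filter]
    refine ⟨Finset.mem_univ _, ?_⟩
    rcases Finset.mem_insert.1 hz with rfl | hz
    · exact ⟨hq', hqB'⟩
    · obtain ⟨hzE, hzB⟩ := Finset.mem_sdiff.1 hz
      refine ⟨?_, hzB⟩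
      by_contra hzm
      exact hE' (S.fixed_mem hg hzm hq' hqB' hEf hzE)
  obtain ⟨E₁, hE₁⟩ : (Finset.univ.filter fun E => y ∈ S.pts E ∧ g • E = E).Nonempty := by
    rw [← Finset.card_pos, S.fixed_through_moved hg hy]; exact S.l_pos
  rw [Finset.mem_filter] at hE₁
  have hsub2 : insert y Sf ⊆ S.pts E₁ \ S.pts B := by
    intro z hz
    rw [Finset.mem_sdiff]
    rcases Finset.mem_insert.1 hz with rfl | hz
    · exact ⟨hE₁.2.1, (S.smul_ne hg hy).2⟩
    · rw [hSf, Finset.mem_filter] at hz
      exact ⟨S.fixed_mem hg hy hz.2.1 hz.2.2 hE₁.2.2 hE₁.2.1, hz.2.2⟩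
  have c1 := Finset.card_le_card hsub1
  rw [Finset.card_insert_of_notMem (fun h => hE' (Finset.mem_sdiff.1 h).1)] at c1
  have c2 := Finset.card_le_card hsub2
  rw [Finset.card_insert_of_notMem
    (fun h => hy (by rw [hSf, Finset.mem_filter] at h; exact h.2.1))] at c2
  have hEB : E ≠ B := fun h => hqB (h ▸ hE)
  have hE₁B : E₁ ≠ B := fun h => (S.smul_ne hg hy).2 (h ▸ hE₁.2.1)
  rw [Finset.card_sdiff, S.blk, Finset.inter_comm, S.meet E B hEB] at c1
  rw [Finset.card_sdiff, S.blk, Finset.inter_comm, S.meet E₁ B hE₁B] at c2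
  omega

/-- Semiregularity off the axes. -/
def Semireg : Prop := ∀ (B : Y) (g : G), g ∈ S.axial B → g ≠ 1 → ∀ z, z ∉ S.pts B → g • z ≠ z

theorem exists_fixed_block (hsr : S.Semireg) {B : Y} {a : G} (ha : a ∈ S.axial B) (ha1 : a ≠ 1) :
    ∃ D, D ≠ B ∧ a • D = D := by
  by_contra h
  push Not at h
  have h1 : Nat.card (fixedBy Y a) = 1 := by
    rw [Nat.card_eq_one_iff_unique]
    refine ⟨⟨fun u v => Subtype.ext ?_⟩, ⟨⟨B, S.axial_smul_block ha⟩⟩⟩
    have hu : u.1 = B := by_contra fun hn => h u.1 hn u.2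
    have hv : v.1 = B := by_contra fun hn => h v.1 hn v.2
    rw [hu, hv]
  have h2 : Nat.card (fixedBy Ω a) = S.k := by
    rw [← S.blk B, ← Nat.card_eq_finsetCard]
    refine Nat.card_congr (Equiv.subtypeEquivRight fun z => ⟨fun hz => ?_, fun hz => ?_⟩)
    · exact by_contra fun hn => hsr B a ha ha1 z hn hz
    · exact S.mem_axial.1 ha z hz
  have := S.fixed a
  have := S.l_pos
  have := S.l_lt
  omega

/-- The key counting argument. -/
theorem no_inverted (hsr : S.Semireg) {B D : Y} (hBD : D ≠ B) {a c : G} (ha : a ∈ S.axial B)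
    (ha1 : a ≠ 1) (haD : a • D = D) (hc : c ∈ S.axial D) (hc2 : c * c ≠ 1)
    (hac : a * c * a⁻¹ = c⁻¹) : False := by
  have hc1 : c ≠ 1 := fun h => hc2 (by rw [h, one_mul])
  set F := Finset.univ.filter fun E : Y => a • E = E with hF
  let τ : Ω → ℕ := fun z => (F.filter fun E => z ∈ S.pts E).card
  have hsum : ∀ E₀ ∈ F, ∑ z ∈ S.pts E₀, τ z = S.k + (F.card - 1) * S.l := by
    intro E₀ hE₀
    have h1 : ∑ z ∈ S.pts E₀, τ z = ∑ E ∈ F, (S.pts E₀ ∩ S.pts E).card := by
      simp only [τ, Finset.card_filter]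
      rw [Finset.sum_comm]
      refine Finset.sum_congr rfl fun E _ => ?_
      rw [← Finset.card_filter, Finset.filter_mem_eq_inter]
    rw [h1, ← Finset.add_sum_erase F _ hE₀, Finset.inter_self, S.blk,
      Finset.sum_const_nat (m := S.l) (fun E hE => S.meet E₀ E (Finset.ne_of_mem_erase hE).symm),
      Finset.card_erase_of_mem hE₀]
  have hout : ∀ z, z ∉ S.pts B → τ z = S.l := by
    intro z hz
    rw [← S.fixed_through_moved ha (hsr B a ha ha1 z hz)]
    simp only [τ, hF, Finset.filter_filter]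
    congr 1
    exact Finset.filter_congr fun E _ => and_comm
  have hBF : B ∈ F := Finset.mem_filter.2 ⟨Finset.mem_univ _, S.axial_smul_block ha⟩
  have hDF : D ∈ F := Finset.mem_filter.2 ⟨Finset.mem_univ _, haD⟩
  have hin : ∀ x ∈ S.pts B \ S.pts D, S.l + 1 ≤ τ x := by
    intro x hx
    obtain ⟨hxB, hxD⟩ := Finset.mem_sdiff.1 hx
    have hcx : c • x ≠ x := hsr D c hc hc1 x hxD
    have hccx : (c * c) • x ≠ x := hsr D _ (mul_mem hc hc) hc2 x hxD
    have hay : a • c • x = c⁻¹ • x := by
      have h : a * c = c⁻¹ * a := by rw [← hac, inv_mul_cancel_right]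
      rw [← mul_smul, h, mul_smul, S.mem_axial.1 ha x hxB]
    have hmov : a • c • x ≠ c • x := fun h => hccx (by
      rw [hay, inv_smul_eq_iff] at h; rw [mul_smul]; exact h.symm)
    have hyB : c • x ∉ S.pts B := (S.smul_ne ha hmov).2
    have hsub : insert B (Finset.univ.filter fun E => x ∈ S.pts E ∧ c • x ∈ S.pts E) ⊆
        F.filter fun E => x ∈ S.pts E := by
      intro E hE
      rw [Finset.mem_filter]
      rcases Finset.mem_insert.1 hE with rfl | hE
      · exact ⟨hBF, hxB⟩
      rw [Finset.mem_filter] at hE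
      have hcE := S.smul_block_of_moved hc hcx hE.2.1 hE.2.2
      refine ⟨Finset.mem_filter.2 ⟨Finset.mem_univ _,
        S.smul_block_of_moved ha hmov hE.2.2 ?_⟩, hE.2.1⟩
      rw [hay, ← inv_smul_eq_iff.2 hcE.symm, S.smul_mem]
      exact hE.2.1
    have h3 := Finset.card_le_card hsub
    rwa [Finset.card_insert_of_notMem (fun h => hyB (Finset.mem_filter.1 h).2.2),
      S.two x (c • x) (Ne.symm hcx)] at h3
  have hB := hsum B hBF
  have hD := hsum D hDF
  rw [← Finset.sum_inter_add_sum_sdiff (S.pts B) (S.pts D) τ] at hB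
  rw [← Finset.sum_inter_add_sum_sdiff (S.pts D) (S.pts B) τ, Finset.inter_comm] at hD
  have h1 : ∑ z ∈ S.pts D \ S.pts B, τ z = (S.pts D \ S.pts B).card * S.l :=
    Finset.sum_const_nat fun z hz => hout z (Finset.mem_sdiff.1 hz).2
  have h2 : (S.pts B \ S.pts D).card * (S.l + 1) ≤ ∑ z ∈ S.pts B \ S.pts D, τ z := by
    have := Finset.card_nsmul_le_sum (S.pts B \ S.pts D) τ (S.l + 1) hin
    simpa using this
  have hn : ∀ {P Q : Y}, P ≠ Q → (S.pts P \ S.pts Q).card = S.k - S.l := fun {P Q} h => by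
    rw [Finset.card_sdiff, S.blk, S.meet Q P h.symm]
  rw [hn hBD] at h1
  rw [hn hBD.symm] at h2
  rw [Nat.mul_add, Nat.mul_one] at h2
  have := S.l_lt
  omega

end Sym

end H13.Ito
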