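import Cfsg.Agent.H13.Ito.Kernel
import Cfsg.Agent.H64.ONan.Cosets

/-!
The symmetric design of an intransitive subgroup of index the degree of a doubly transitive group.
-/

set_option autoImplicit false
set_option linter.style.haveILetI false
set_option linter.unusedSectionVars false

namespace H13.Ito

open MulAction
open scoped Classical

variable {G Ω : Type*} [Group G] [Finite G] [MulAction G Ω] [FaithfulSMul G Ω] [Fintype Ω]

/-- The points of a coset. -/
noncomputable def orbitPts (H : Subgroup G) (a : Ω) (c : G ⧸ H) : Finset Ω :=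
  Finset.univ.filter fun z => c.out⁻¹ • z ∈ orbit H a

theorem smul_mem_orbitPts (H : Subgroup G) (a : Ω) (g : G) (z : Ω) (c : G ⧸ H) :
    g • z ∈ orbitPts H a (g • c) ↔ z ∈ orbitPts H a c := by
  obtain ⟨h, hh⟩ : ∃ h : H, (g • c).out = g * c.out * h := by
    obtain ⟨h, hh⟩ := QuotientGroup.mk_out_eq_mul H (g * c.out)
    refine ⟨h, ?_⟩
    rw [← hh]
    congr 1
    conv_lhs => rw [← c.out_eq']
    rfl
  simp only [orbitPts, Finset.mem_filter, Finset.mem_univ, true_and]
  rw [hh, _root_.mul_inv_rev, _root_.mul_inv_rev, mul_smul, mul_smul, inv_smul_smul,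
    show (↑h : G)⁻¹ • c.out⁻¹ • z = (h⁻¹ : H) • (c.out⁻¹ • z) from rfl]
  constructor
  · intro hm
    have := mem_orbit_of_mem_orbit h hm
    rwa [smul_inv_smul] at this
  · exact fun hm => mem_orbit_of_mem_orbit (h⁻¹) hm

theorem mem_orbitPts_one (H : Subgroup G) (a z : Ω) :
    z ∈ orbitPts H a ((1 : G) : G ⧸ H) ↔ z ∈ orbit H a := by
  obtain ⟨h, hh⟩ := QuotientGroup.mk_out_eq_mul H (1 : G)
  simp only [orbitPts, Finset.mem_filter, Finset.mem_univ, true_and]
  rw [hh, one_mul, show (↑h : G)⁻¹ • z = (h⁻¹ : H) • z from rfl]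
  exact ⟨fun hm => by have := mem_orbit_of_mem_orbit h hm; rwa [smul_inv_smul] at this,
    fun hm => mem_orbit_of_mem_orbit (h⁻¹) hm⟩

theorem exists_sym (h2 : MulAction.IsMultiplyPretransitive G Ω 2) (H : Subgroup G)
    (hidx : H.index = Nat.card Ω) (hnt : ¬ MulAction.IsPretransitive H Ω)
    [Fintype (G ⧸ H)] (a : Ω) (hmove : ∃ h : H, h • a ≠ a) :
    ∃ S : Sym G Ω (G ⧸ H), ∀ c, S.pts c = orbitPts H a c := by
  haveI := h2
  haveI : IsPretransitive G Ω := isPretransitive_of_is_two_pretransitive
  set P := orbitPts H a with hP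
  have hsm : ∀ (g : G) z c, g • z ∈ P (g • c) ↔ z ∈ P c := smul_mem_orbitPts H a
  obtain ⟨b, hb⟩ : ∃ b, b ∉ orbit H a := by
    by_contra hc
    push Not at hc
    exact hnt ⟨fun x y => by
      obtain ⟨u, hu⟩ := hc x
      obtain ⟨w, hw⟩ := hc y
      refine ⟨w * u⁻¹, ?_⟩
      rw [mul_smul, ← hu]
      simp only [inv_smul_smul]
      exact hw⟩
  have hcardY : Fintype.card (G ⧸ H) = Fintype.card Ω := by
    rw [← Nat.card_eq_fintype_card, ← Nat.card_eq_fintype_card, ← hidx]; rfl
  set k := (P ((1 : G) : G ⧸ H)).card with hk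
  have hblk : ∀ c, (P c).card = k := by
    intro c
    obtain ⟨g, rfl⟩ := MulAction.exists_smul_eq G ((1 : G) : G ⧸ H) c
    exact (Finset.card_equiv (MulAction.toPerm g) fun z => by rw [MulAction.toPerm_apply]; exact (hsm g z _).symm).symm
  set r := (Finset.univ.filter fun c => a ∈ P c).card with hr
  have hstar : ∀ z, (Finset.univ.filter fun c => z ∈ P c).card = r := by
    intro z
    obtain ⟨g, rfl⟩ := MulAction.exists_smul_eq G a z
    exact (Finset.card_equiv (MulAction.toPerm g) fun c => by simp only [Finset.mem_filter, Finset.mem_univ, true_and, MulAction.toPerm_apply, hsm]).symm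
  have hcount : ∀ s : Finset (G ⧸ H), ∀ T : Finset Ω,
      ∑ z ∈ T, (s.filter fun c => z ∈ P c).card = ∑ c ∈ s, (T ∩ P c).card := by
    intro s T
    simp only [Finset.card_filter]
    rw [Finset.sum_comm]
    exact Finset.sum_congr rfl fun c _ => by rw [← Finset.card_filter, Finset.filter_mem_eq_inter]
  have hkr : r = k := by
    have h := hcount Finset.univ Finset.univ
    rw [Finset.sum_const_nat (m := r) (fun z _ => hstar z),
      Finset.sum_const_nat (m := k) (fun c _ => by rw [Finset.univ_inter]; exact hblk c),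
      Finset.card_univ, Finset.card_univ, hcardY] at h
    exact Nat.eq_of_mul_eq_mul_left (Fintype.card_pos_iff.2 ⟨a⟩) h
  have hab : a ≠ b := fun h => hb (h ▸ mem_orbit_self a)
  set l := (Finset.univ.filter fun c => a ∈ P c ∧ b ∈ P c).card with hl
  have htwo : ∀ z z', z ≠ z' → (Finset.univ.filter fun c => z ∈ P c ∧ z' ∈ P c).card = l := by
    intro z z' hne
    obtain ⟨g, rfl, rfl⟩ := MulAction.is_two_pretransitive_iff.mp h2 hab hne
    exact (Finset.card_equiv (MulAction.toPerm g) fun c => by simp only [Finset.mem_filter, Finset.mem_univ, true_and, MulAction.toPerm_apply, hsm]).symm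
  have hlk : l < k := by
    rw [← hkr]
    refine Finset.card_lt_card (Finset.ssubset_iff_subset_ne.mpr
      ⟨Finset.monotone_filter_right _ fun c _ h => h.1, fun he => ?_⟩)
    have hc : ((1 : G) : G ⧸ H) ∈ Finset.univ.filter fun c => a ∈ P c := by
      rw [Finset.mem_filter, hP, mem_orbitPts_one]
      exact ⟨Finset.mem_univ _, mem_orbit_self a⟩
    rw [← he, Finset.mem_filter, hP, mem_orbitPts_one, mem_orbitPts_one] at hc
    exact hb hc.2.2
  have hk2 : 2 ≤ k := by
    obtain ⟨h, hh⟩ := hmove
    refine Finset.one_lt_card.2 ⟨a, ?_, h • a, ?_, hh.symm⟩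
    · exact (mem_orbitPts_one H a a).2 (mem_orbit_self a)
    · exact (mem_orbitPts_one H a _).2 (mem_orbit a h)
  -- the standard identity
  have hid : k * (k - 1) = (Fintype.card Ω - 1) * l := by
    have h := hcount (Finset.univ.filter fun c => a ∈ P c) (Finset.univ.erase a)
    rw [Finset.sum_const_nat (m := l) (fun z hz => by
        rw [Finset.filter_filter]; exact htwo a z (Finset.ne_of_mem_erase hz).symm),
      Finset.sum_const_nat (m := k - 1) (fun c hc => by
        rw [Finset.erase_inter, Finset.univ_inter,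
          Finset.card_erase_of_mem (Finset.mem_filter.1 hc).2, hblk]),
      Finset.card_erase_of_mem (Finset.mem_univ a), Finset.card_univ, hstar, hkr] at h
    exact h.symm
  have hl0 : 0 < l := by
    rcases Nat.eq_zero_or_pos l with h0 | h0
    · rw [h0, mul_zero] at hid
      rcases Nat.mul_eq_zero.1 hid with h | h <;> omega
    · exact h0
  have hmeet : ∀ c c', c ≠ c' → (P c ∩ P c').card = l := by
    intro c c' hne
    have hs1 : ∑ d ∈ Finset.univ.erase c, ((P c ∩ P d).card : ℤ) = (k : ℤ) * k - k := by
      have h := hcount Finset.univ (P c)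
      rw [Finset.sum_const_nat (m := k) (fun z _ => (hstar z).trans hkr), hblk,
        ← Finset.add_sum_erase _ _ (Finset.mem_univ c), Finset.inter_self, hblk] at h
      have h' : ((k * k : ℕ) : ℤ) = ((k + ∑ d ∈ Finset.univ.erase c, (P c ∩ P d).card : ℕ) : ℤ) := by
        rw [h]
      push_cast at h'
      linarith
    have hs2 : ∑ d ∈ Finset.univ.erase c, ((P c ∩ P d).card : ℤ) * (P c ∩ P d).card
        = ((k : ℤ) * k - k) * l := by
      have h : ∑ d : G ⧸ H, (P c ∩ P d).card * (P c ∩ P d).card = k * k + k * ((k - 1) * l) := by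
        calc ∑ d : G ⧸ H, (P c ∩ P d).card * (P c ∩ P d).card
            = ∑ d : G ⧸ H, ((P c ×ˢ P c).filter fun w => w.1 ∈ P d ∧ w.2 ∈ P d).card := by
              refine Finset.sum_congr rfl fun d _ => ?_
              rw [← Finset.card_product]
              congr 1
              ext w
              simp only [Finset.mem_product, Finset.mem_inter, Finset.mem_filter]
              tauto
          _ = ∑ w ∈ P c ×ˢ P c,
              (Finset.univ.filter fun d => w.1 ∈ P d ∧ w.2 ∈ P d).card := by
              simp only [Finset.card_filter]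
              exact Finset.sum_comm
          _ = ∑ z ∈ P c, ∑ z' ∈ P c, (Finset.univ.filter fun d => z ∈ P d ∧ z' ∈ P d).card :=
              Finset.sum_product _ _ _
          _ = ∑ z ∈ P c, (k + (k - 1) * l) := by
              refine Finset.sum_congr rfl fun z hz => ?_
              rw [← Finset.add_sum_erase _ _ hz,
                Finset.sum_const_nat (m := l) (fun z' hz' => htwo z z'
                  (Finset.ne_of_mem_erase hz').symm),
                Finset.card_erase_of_mem hz, hblk]
              congr 1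
              rw [Finset.filter_congr (q := fun d => z ∈ P d) (fun d _ => and_self_iff)]
              exact (hstar z).trans hkr
          _ = k * k + k * ((k - 1) * l) := by
              rw [Finset.sum_const, hblk, smul_eq_mul, Nat.mul_add]
      rw [← Finset.add_sum_erase _ _ (Finset.mem_univ c), Finset.inter_self, hblk] at h
      have h' : ((k * k + ∑ d ∈ Finset.univ.erase c, (P c ∩ P d).card * (P c ∩ P d).card : ℕ) : ℤ)
          = ((k * k + k * ((k - 1) * l) : ℕ) : ℤ) := by rw [h]
      push_cast [Nat.cast_sub (show 1 ≤ k by omega)] at h'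
      linarith
    have hid' : ((Fintype.card Ω - 1 : ℕ) : ℤ) * l = (k : ℤ) * k - k := by
      have h' : ((k * (k - 1) : ℕ) : ℤ) = (((Fintype.card Ω - 1) * l : ℕ) : ℤ) := by rw [hid]
      push_cast [Nat.cast_sub (show 1 ≤ k by omega)] at h'
      linarith
    have hzero : ∑ d ∈ Finset.univ.erase c, (((P c ∩ P d).card : ℤ) - l) ^ 2 = 0 := by
      simp only [sub_sq, Finset.sum_add_distrib, Finset.sum_sub_distrib]
      rw [Finset.sum_const, Finset.card_erase_of_mem (Finset.mem_univ c), Finset.card_univ, hcardY]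
      simp only [pow_two, mul_assoc, ← Finset.mul_sum, ← Finset.sum_mul]
      rw [hs2, hs1, nsmul_eq_mul]
      linear_combination (l : ℤ) * hid'
    have := (Finset.sum_eq_zero_iff_of_nonneg fun d _ => sq_nonneg _).1 hzero c'
      (Finset.mem_erase.2 ⟨hne.symm, Finset.mem_univ _⟩)
    have h' : ((P c ∩ P c').card : ℤ) = l := by
      have h'' := pow_eq_zero_iff (n := 2) (by norm_num) |>.1 this
      linarith
    exact_mod_cast h'
  exact ⟨⟨P, hsm, k, l, hl0, hlk, hblk, fun z => (hstar z).trans hkr, htwo, hmeet,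
    fun g => H64.ONan.fixedBy_cosets h2 H hidx hnt g⟩, fun c => rfl⟩

end H13.Ito
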