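import Cfsg.Agent.H13.Ito.Axial
import Cfsg.Agent.H65.BaerSuzuki
import Cfsg.Agent.H1.Fitting
import Cfsg.Agent.S0042
import Cfsg.Agent.S0205
import Cfsg.Agent.H2.FrobeniusBasic

/-!
The pointwise stabiliser of a block in a doubly transitive symmetric design is solvable or has
non-trivial Fitting subgroup.
-/

set_option autoImplicit false
set_option linter.style.haveILetI false
set_option linter.unusedSectionVars false

namespace H13.Ito.Sym

open MulAction
open scoped Classical Pointwise

variable {G Ω Y : Type*} [Group G] [MulAction G Ω] [MulAction G Y] [Fintype Ω] [Fintype Y]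
  (S : Sym G Ω Y)

theorem conj_axial (g : G) {E : Y} {a : G} (ha : a ∈ S.axial E) :
    g * a * g⁻¹ ∈ S.axial (g • E) := by
  rw [mem_axial] at ha ⊢
  intro z hz
  have h : g⁻¹ • z ∈ S.pts E := by rwa [← S.smul_mem g, smul_inv_smul]
  rw [mul_smul, mul_smul, ha _ h, smul_inv_smul]

/-- Semiregular case: some axial group meets a normal `2`-subgroup non-trivially. -/
theorem fitting_ne_bot_of_semireg [Finite G] [FaithfulSMul G Ω] [FaithfulSMul G Y] (hsr : S.Semireg)
    (h2 : MulAction.IsMultiplyPretransitive G Y 2) {B : Y} {a : G} (ha : a ∈ S.axial B)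
    (hao : orderOf a = 2) : Cfsg.fittingSubgroup ↥(S.axial B) ≠ ⊥ := by
  haveI : Fact (Nat.Prime 2) := ⟨Nat.prime_two⟩
  have ha1 : a ≠ 1 := fun h => by rw [h, orderOf_one] at hao; omega
  obtain ⟨D₀, hD₀, haD₀⟩ := S.exists_fixed_block hsr ha ha1
  -- swap the blocks: an involution of the axial group of `D₀` fixing `B`
  obtain ⟨g, hgB, hgD⟩ := MulAction.is_two_pretransitive_iff.1 h2 hD₀.symm hD₀
  set t := g * a * g⁻¹ with ht
  have htD : t ∈ S.axial D₀ := hgB ▸ S.conj_axial g ha
  have htB : t • B = B := by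
    rw [ht, ← hgD, mul_smul, mul_smul, inv_smul_smul, haD₀]
  have hto : orderOf t = 2 := by
    rw [ht, ← hao]
    exact orderOf_injective (MulAut.conj g).toMonoidHom (MulAut.conj g).injective a
  have ht1 : t ≠ 1 := fun h => by rw [h, orderOf_one] at hto; omega
  have htt : t * t = 1 := by rw [← pow_two, ← hto, pow_orderOf_eq_one]
  have htinv : t⁻¹ = t := inv_eq_of_mul_eq_one_left htt
  set K := S.axial B with hK
  have hnorm : ∀ c ∈ K, t * c * t⁻¹ ∈ K := fun c hc => by
    have := S.conj_axial t hc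
    rwa [htB] at this
  have hnorm' : ∀ c ∈ K, t * c * t ∈ K := fun c hc => by
    have := hnorm c hc
    rwa [htinv] at this
  let M : Subgroup G :=
    { carrier := {g | g ∈ K ∨ g * t ∈ K}
      one_mem' := Or.inl (one_mem _)
      mul_mem' := by
        rintro x y (hx | hx) (hy | hy)
        · exact Or.inl (mul_mem hx hy)
        · exact Or.inr (by rw [mul_assoc]; exact mul_mem hx hy)
        · refine Or.inr ?_
          have h : x * y * t = (x * t) * (t * y * t) := by
            rw [show x * t * (t * y * t) = x * (t * t) * y * t by group, htt, mul_one]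
          rw [h]
          exact mul_mem hx (hnorm' y hy)
        · refine Or.inl ?_
          have h : x * y = (x * t) * (t * (y * t) * t) := by
            rw [show x * t * (t * (y * t) * t) = x * (t * t) * y * (t * t) by group, htt, mul_one,
              mul_one]
          rw [h]
          exact mul_mem hx (hnorm' _ hy)
      inv_mem' := by
        rintro x (hx | hx)
        · exact Or.inl (inv_mem hx)
        · refine Or.inr ?_
          have h : x⁻¹ * t = t * (x * t)⁻¹ * t := by
            rw [show t * (x * t)⁻¹ * t = (t * t⁻¹) * x⁻¹ * t by group, mul_inv_cancel, one_mul]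
          rw [h]
          exact hnorm' _ (inv_mem hx) }
  have hKM : K ≤ M := fun c hc => Or.inl hc
  let tM : M := ⟨t, Or.inr (by rw [htt]; exact one_mem _)⟩
  by_cases hO : tM ∈ Cfsg.pCore 2 M
  swap
  · exfalso
    obtain ⟨h, hh1, hho, hinv⟩ :=
      H65.exists_odd_inverted (t := tM) (by rw [← Subgroup.orderOf_coe]; exact hto) hO
    set c : G := (h : G) with hc
    have hco : Odd (orderOf c) := by rw [hc, Subgroup.orderOf_coe]; exact hho
    have hc1 : c ≠ 1 := fun h' => hh1 (Subtype.ext h')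
    have hc2 : c * c ∈ K := by
      rcases h.2 with hh | hh
      · exact mul_mem hh hh
      · have e : c * c = (c * t) * (t * (c * t) * t) := by
          rw [show c * t * (t * (c * t) * t) = c * (t * t) * c * (t * t) by group, htt, mul_one,
            mul_one]
        rw [e]
        exact mul_mem hh (hnorm' _ hh)
    have hcK : c ∈ K := by
      obtain ⟨j, hj⟩ := hco
      have : (c * c) ^ (j + 1) = c := by
        rw [← pow_two, ← pow_mul, show 2 * (j + 1) = orderOf c + 1 by omega, pow_succ,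
          pow_orderOf_eq_one, one_mul]
      rw [← this]
      exact pow_mem hc2 _
    have hcc : c * c ≠ 1 := fun h' => by
      have : orderOf c ∣ 2 := orderOf_dvd_of_pow_eq_one (by rw [pow_two]; exact h')
      rcases (Nat.dvd_prime Nat.prime_two).1 this with h'' | h''
      · exact hc1 (orderOf_eq_one_iff.1 h'')
      · rw [h''] at hco; exact absurd hco (by decide)
    exact S.no_inverted hsr hD₀.symm htD ht1 htB hcK hcc (congrArg Subtype.val hinv)
  -- the axial group meets `pCore 2 M` non-trivially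
  set N := ((Cfsg.pCore 2 M).map M.subtype).subgroupOf K with hN
  haveI : N.Normal := ⟨fun n hn c => by
    obtain ⟨m, hm, hme⟩ := (Subgroup.mem_subgroupOf.1 hn : (n : G) ∈ _)
    exact Subgroup.mem_subgroupOf.2 ⟨⟨c, hKM c.2⟩ * m * ⟨c, hKM c.2⟩⁻¹,
      (H1.pCore_normal' 2 M).conj_mem m hm _, by
        simp only [map_mul, map_inv, Subgroup.coe_subtype, Subgroup.coe_mul, Subgroup.coe_inv] at *
        rw [hme]⟩⟩
  have hNp : IsPGroup 2 N := by
    have h1 : IsPGroup 2 ((Cfsg.pCore 2 M).map M.subtype) := (H1.isPGroup_pCore 2 M).map _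
    intro x
    obtain ⟨i, hi⟩ := h1 ⟨((x : K) : G), x.2⟩
    refine ⟨i, Subtype.ext (Subtype.ext ?_)⟩
    have h2' := congrArg Subtype.val hi
    simpa using h2'
  haveI : Group.IsNilpotent N := hNp.isNilpotent
  intro h0
  have hle : N ≤ Cfsg.fittingSubgroup ↥K := H1.le_fittingSubgroup inferInstance
  rw [h0, le_bot_iff] at hle
  -- so `t` centralises the axial group, which then fixes every block
  have hcen : ∀ c ∈ K, c * t = t * c := by
    intro c hc
    have hmem : c * t * c⁻¹ * t⁻¹ ∈ (Cfsg.pCore 2 M).map M.subtype :=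
      ⟨⟨c, hKM hc⟩ * tM * ⟨c, hKM hc⟩⁻¹ * tM⁻¹,
        mul_mem ((H1.pCore_normal' 2 M).conj_mem _ hO _) (inv_mem hO), rfl⟩
    have hmK : c * t * c⁻¹ * t⁻¹ ∈ K := by
      rw [show c * t * c⁻¹ * t⁻¹ = c * (t * c⁻¹ * t⁻¹) by group]
      exact mul_mem hc (hnorm _ (inv_mem hc))
    have h3 : (⟨_, hmK⟩ : K) ∈ N := Subgroup.mem_subgroupOf.2 hmem
    rw [hle, Subgroup.mem_bot] at h3
    calc c * t = c * t * c⁻¹ * t⁻¹ * (t * c) := by group
      _ = t * c := by rw [show c * t * c⁻¹ * t⁻¹ = 1 from congrArg Subtype.val h3, one_mul]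
  have hfixD : ∀ c ∈ K, c • D₀ = D₀ := by
    intro c hc
    apply S.pts_injective
    refine (Finset.eq_of_subset_of_card_le (fun z hz => ?_) (by rw [S.blk, S.blk])).symm
    have hfz : t • c⁻¹ • z = c⁻¹ • z := by
      have h4 := hcen _ (inv_mem hc)
      rw [← mul_smul, ← h4, mul_smul, S.mem_axial.1 htD z hz]
    have hcz : c⁻¹ • z ∈ S.pts D₀ := by_contra fun hn => hsr D₀ t htD ht1 _ hn hfz
    rw [← smul_inv_smul c z, S.smul_mem]
    exact hcz
  have hKne : ∃ c ∈ K, c ≠ 1 := ⟨a, ha, ha1⟩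
  obtain ⟨c, hc, hc1⟩ := hKne
  refine hc1 (FaithfulSMul.eq_of_smul_eq_smul (α := Y) fun E => ?_)
  rw [one_smul]
  by_cases hE : E = B
  · rw [hE]; exact S.axial_smul_block hc
  obtain ⟨f, hf1, hf2⟩ := MulAction.is_two_pretransitive_iff.1 h2 hD₀.symm (Ne.symm hE)
  have h5 : f⁻¹ * c * f ∈ K := by
    have := S.conj_axial f⁻¹ hc
    rwa [inv_smul_eq_iff.2 hf1.symm, inv_inv] at this
  have h6 := hfixD _ h5
  rw [mul_smul, mul_smul, hf2, inv_smul_eq_iff, hf2] at h6
  exact h6

/-- Frobenius case. -/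
theorem fitting_ne_bot_of_fixed [Finite G] [FaithfulSMul G Ω] {B : Y} {g : G} (hg : g ∈ S.axial B)
    (hg1 : g ≠ 1) {q : Ω} (hqB : q ∉ S.pts B) (hq : g • q = q) {h : G} (hhB : h • B = B)
    (hhq : h • q ≠ q) : Cfsg.fittingSubgroup ↥(S.axial B) ≠ ⊥ := by
  set K := S.axial B with hK
  let Hq : Subgroup K := stabilizer K q
  have hout : ∀ c : K, (c : G) • q ∉ S.pts B := fun c hc =>
    hqB ((smul_left_cancel (c : G) (S.mem_axial.1 c.2 _ hc)) ▸ hc)
  have hne : Hq ≠ ⊥ := fun h0 => hg1 (by
    have : (⟨g, hg⟩ : K) ∈ Hq := hq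
    rw [h0, Subgroup.mem_bot] at this
    exact congrArg Subtype.val this)
  have htop : Hq ≠ ⊤ := by
    intro h0
    have hall : ∀ c ∈ K, c • q = q := fun c hc => by
      have : (⟨c, hc⟩ : K) ∈ Hq := h0 ▸ Subgroup.mem_top _
      exact this
    have hconj : h⁻¹ * g * h ∈ K := by
      have := S.conj_axial h⁻¹ hg
      rwa [inv_smul_eq_iff.2 hhB.symm, inv_inv] at this
    have h1 := hall _ hconj
    rw [mul_smul, mul_smul, inv_smul_eq_iff] at h1
    refine hhq (S.fixed_outside_unique hg hg1 h1 hq ?_ hqB)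
    rw [← hhB, S.smul_mem]
    exact hqB
  have hF : Cfsg.IsFrobeniusComplement Hq := by
    refine ⟨hne, htop, fun c hc => ?_⟩
    rw [eq_bot_iff]
    intro x hx
    obtain ⟨hx1, hx2⟩ := Subgroup.mem_inf.1 hx
    rw [H2.mem_conj_smul] at hx2
    rw [Subgroup.mem_bot]
    by_contra hxn
    have hx1' : (x : G) • q = q := hx1
    have hx2' : ((c⁻¹ * x * c : K) : G) • q = q := hx2
    rw [Subgroup.coe_mul, Subgroup.coe_mul, Subgroup.coe_inv, mul_smul, mul_smul, inv_smul_eq_iff]
      at hx2'
    exact hc (S.fixed_outside_unique x.2 (fun h' => hxn (Subtype.ext h')) hx2' hx1' (hout c) hqB)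
  obtain ⟨N, hNker, hNn, hNnil⟩ := Cfsg.Agent.S0042.result Hq hF
  intro h0
  haveI := hNn
  have hle : N ≤ Cfsg.fittingSubgroup ↥K := H1.le_fittingSubgroup hNnil
  rw [h0, le_bot_iff] at hle
  have hcard := H2.card_frobeniusKernel hF
  rw [← hNker, hle] at hcard
  exact htop (Subgroup.index_eq_one.1 (hcard.symm.trans (by simp)))

/-- The pointwise stabiliser of a block is solvable or has non-trivial Fitting subgroup. -/
theorem solvable_or_fitting [Finite G] [FaithfulSMul G Ω] [FaithfulSMul G Y]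
    (h2 : MulAction.IsMultiplyPretransitive G Y 2) (B : Y)
    (hfix : ∀ q : Ω, ∃ h : G, h • B = B ∧ h • q ≠ q) :
    Group.IsSolvable ↥(S.axial B) ∨ Cfsg.fittingSubgroup ↥(S.axial B) ≠ ⊥ := by
  haveI : Fact (Nat.Prime 2) := ⟨Nat.prime_two⟩
  by_cases hsr : S.Semireg
  · rcases Nat.even_or_odd (Nat.card ↥(S.axial B)) with he | ho
    · obtain ⟨a, ha⟩ := exists_prime_orderOf_dvd_card' 2 (even_iff_two_dvd.1 he)
      exact Or.inr (S.fitting_ne_bot_of_semireg hsr h2 a.2 (by rw [Subgroup.orderOf_coe]; exact ha))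
    · exact Or.inl (Cfsg.Agent.S0205.result ho)
  · right
    simp only [Semireg, not_forall, not_not] at hsr
    obtain ⟨B', g, hg, hg1, q, hq, hgq⟩ := hsr
    haveI := h2
    haveI : IsPretransitive G Y := isPretransitive_of_is_two_pretransitive
    obtain ⟨f, rfl⟩ := exists_smul_eq G B B'
    have hg' : f⁻¹ * g * f ∈ S.axial B := by
      have := S.conj_axial f⁻¹ hg
      rwa [inv_smul_smul, inv_inv] at this
    have hq' : f⁻¹ • q ∉ S.pts B := by rwa [← S.smul_mem f, smul_inv_smul]
    obtain ⟨h, hhB, hhq⟩ := hfix (f⁻¹ • q)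
    refine S.fitting_ne_bot_of_fixed hg' (fun h' => hg1 ?_) hq' ?_ hhB hhq
    · calc g = f * (f⁻¹ * g * f) * f⁻¹ := by group
        _ = 1 := by rw [h', mul_one, mul_inv_cancel]
    · rw [mul_smul, mul_smul, smul_inv_smul, hgq]

end H13.Ito.Sym
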